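import Mathlib

set_option autoImplicit false
universe u
open CategoryTheory AlgebraicGeometry Opposite

namespace Groth.Agent.H5.SO

variable {X Y S : Scheme.{u}}

/-- Lifting a map from a finitely presented algebra to the stalk to a neighbourhood, without any
germ-injectivity assumption. -/
lemma exists_lift_of_finitePresentation {R A : CommRingCat.{u}} {U : X.Opens} {x : X}
    (hxU : x ∈ U)
    (φ : A ⟶ X.presheaf.stalk x) (φRA : R ⟶ A) (φRX : R ⟶ Γ(X, U))
    (hφRA : RingHom.FinitePresentation φRA.hom)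
    (e : φRA ≫ φ = φRX ≫ X.presheaf.germ U x hxU) :
    ∃ (V : X.Opens) (hxV : x ∈ V) (φ' : A ⟶ Γ(X, V)) (i : V ≤ U), IsAffineOpen V ∧
      φ = φ' ≫ X.presheaf.germ V x hxV ∧ φRX ≫ X.presheaf.map i.hom.op = φRA ≫ φ' := by
  classical
  letI := φRA.hom.toAlgebra
  obtain ⟨n, π, hπ, s, hs⟩ := hφRA
  -- lifts of the images of the variables
  choose W hxW f hf using fun i : Fin n =>
    X.presheaf.exists_germ_eq (φ (π (MvPolynomial.X i)))
  set V₀ : X.Opens := (Finset.univ.inf W) ⊓ U with hV₀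
  have hxV₀ : x ∈ V₀ := by
    rw [← SetLike.mem_coe, TopologicalSpace.Opens.coe_inf, TopologicalSpace.Opens.coe_finset_inf]
    exact ⟨by simpa using fun i => hxW i, hxU⟩
  have hV₀W : ∀ i, V₀ ≤ W i := fun i => inf_le_left.trans (Finset.inf_le (Finset.mem_univ i))
  have hV₀U : V₀ ≤ U := inf_le_right
  letI : Algebra R Γ(X, V₀) := (φRX ≫ X.presheaf.map (homOfLE hV₀U).op).hom.toAlgebra
  let ψ₀ : MvPolynomial (Fin n) R →ₐ[R] Γ(X, V₀) :=
    MvPolynomial.aeval (fun i => X.presheaf.map (homOfLE (hV₀W i)).op (f i))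
  have hgerm : ∀ p : MvPolynomial (Fin n) R,
      X.presheaf.germ V₀ x hxV₀ (ψ₀ p) = φ (π p) := by
    intro p
    induction p using MvPolynomial.induction_on with
    | C r =>
      have h1 : ψ₀ (MvPolynomial.C r) = X.presheaf.map (homOfLE hV₀U).op (φRX r) := by
        rw [← MvPolynomial.algebraMap_eq, AlgHom.commutes]; rfl
      have h2 : π (MvPolynomial.C r) = φRA r := by
        rw [← MvPolynomial.algebraMap_eq, AlgHom.commutes]; rfl
      rw [h1, h2, TopCat.Presheaf.germ_res_apply]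
      have := congr($e r)
      exact this.symm
    | add p q hp hq => rw [map_add, map_add, hp, hq, map_add, map_add]
    | mul_X p i hp =>
      rw [map_mul, map_mul, hp, map_mul, map_mul]
      congr 1
      change X.presheaf.germ V₀ x hxV₀ (MvPolynomial.aeval _ (MvPolynomial.X i)) = _
      rw [MvPolynomial.aeval_X, TopCat.Presheaf.germ_res_apply, hf]
  -- relations vanish on a smaller neighbourhood
  have hrel : ∀ g : (s : Set (MvPolynomial (Fin n) R)),
      X.presheaf.germ V₀ x hxV₀ (ψ₀ g.1) = X.presheaf.germ V₀ x hxV₀ 0 := by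
    intro g
    rw [hgerm, map_zero]
    have : g.1 ∈ RingHom.ker π.toRingHom := by rw [← hs]; exact Ideal.subset_span g.2
    have h0 : π g.1 = 0 := this
    rw [h0, map_zero]
  choose Wg hxWg iU iV hWg using fun g : (s : Set (MvPolynomial (Fin n) R)) =>
    X.presheaf.germ_eq x hxV₀ hxV₀ (ψ₀ g.1) 0 (hrel g)
  set V₁ : X.Opens := (s.attach.inf Wg) ⊓ V₀ with hV₁
  have hxV₁ : x ∈ V₁ := by
    rw [← SetLike.mem_coe, TopologicalSpace.Opens.coe_inf, TopologicalSpace.Opens.coe_finset_inf]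
    exact ⟨by simpa using fun g hg => hxWg ⟨g, hg⟩, hxV₀⟩
  obtain ⟨_, ⟨V, hV, rfl⟩, hxV, hVV₁⟩ :=
    X.isBasis_affineOpens.exists_subset_of_mem_open hxV₁ V₁.2
  have hVV₁' : V ≤ V₁ := hVV₁
  have hVV₀ : V ≤ V₀ := hVV₁'.trans inf_le_right
  have hVWg : ∀ g : (s : Set (MvPolynomial (Fin n) R)), V ≤ Wg g := fun g =>
    hVV₁'.trans (inf_le_left.trans (Finset.inf_le (Finset.mem_attach s g)))
  let ρ : Γ(X, V₀) ⟶ Γ(X, V) := X.presheaf.map (homOfLE hVV₀).op
  let ψ : MvPolynomial (Fin n) R →+* Γ(X, V) := ρ.hom.comp ψ₀.toRingHom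
  have hker : RingHom.ker π.toRingHom ≤ RingHom.ker ψ := by
    rw [← hs, Ideal.span_le]
    intro g hg
    change ρ (ψ₀ g) = 0
    have h1 : ρ (ψ₀ g) = X.presheaf.map (homOfLE (hVWg ⟨g, hg⟩)).op
        (X.presheaf.map (iU ⟨g, hg⟩).op (ψ₀ g)) := by
      rw [← ConcreteCategory.comp_apply, ← Functor.map_comp]
      rfl
    rw [h1, hWg ⟨g, hg⟩, map_zero, map_zero]
  let φ'₀ : A →+* Γ(X, V) := RingHom.liftOfSurjective π.toRingHom hπ ⟨ψ, hker⟩
  have hφ'₀ : ∀ p, φ'₀ (π p) = ρ (ψ₀ p) := fun p =>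
    RingHom.liftOfSurjective_comp_apply π.toRingHom hπ ⟨ψ, hker⟩ p
  refine ⟨V, hxV, CommRingCat.ofHom φ'₀, hVV₀.trans hV₀U, hV, ?_, ?_⟩
  · ext a
    obtain ⟨p, rfl⟩ := hπ a
    change φ (π p) = X.presheaf.germ V x hxV (φ'₀ (π p))
    rw [hφ'₀, ← hgerm]
    exact (TopCat.Presheaf.germ_res_apply _ _ _ _ _).symm
  · ext r
    change X.presheaf.map _ (φRX r) = φ'₀ (φRA r)
    have h2 : φRA r = π (MvPolynomial.C r) := by
      rw [← MvPolynomial.algebraMap_eq, AlgHom.commutes]; rfl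
    have h1 : ψ₀ (MvPolynomial.C r) = X.presheaf.map (homOfLE hV₀U).op (φRX r) := by
      rw [← MvPolynomial.algebraMap_eq, AlgHom.commutes]; rfl
    rw [h2, hφ'₀, h1]
    have h3 : X.presheaf.map ((hVV₀.trans hV₀U).hom.op) =
        X.presheaf.map (homOfLE hV₀U).op ≫ X.presheaf.map (homOfLE hVV₀).op := by
      rw [← Functor.map_comp]; rfl
    rw [h3]
    rfl


set_option backward.isDefEq.respectTransparency.types false in
/-- Spreading out a morphism of local rings: no condition on `X` when `Y` is locally of finite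
presentation over `S`. (Stacks 0BX6, EGA I 6.5.1 (ii)) -/
theorem spread_out_of_locallyOfFinitePresentation (sX : X ⟶ S) (sY : Y ⟶ S)
    [LocallyOfFinitePresentation sY] {x : X} {y : Y}
    (e : sX x = sY y) (φ : Y.presheaf.stalk y ⟶ X.presheaf.stalk x)
    (h : sY.stalkMap y ≫ φ =
      S.presheaf.stalkSpecializes (Inseparable.of_eq e).specializes ≫ sX.stalkMap x) :
    ∃ (U : X.Opens) (hxU : x ∈ U) (f : U.toScheme ⟶ Y),
      Spec.map φ ≫ Y.fromSpecStalk y = U.fromSpecStalkOfMem x hxU ≫ f ∧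
      f ≫ sY = U.ι ≫ sX := by
  obtain ⟨_, ⟨U, hU, rfl⟩, hxU, -⟩ :=
    S.isBasis_affineOpens.exists_subset_of_mem_open (Set.mem_univ (sX x)) isOpen_univ
  have hyU : sY y ∈ U := e ▸ hxU
  obtain ⟨_, ⟨V : Y.Opens, hV, rfl⟩, hyV, iVU⟩ :=
    Y.isBasis_affineOpens.exists_subset_of_mem_open hyU (sY ⁻¹ᵁ U).2
  have : sY.appLE U V iVU ≫ Y.presheaf.germ V y hyV ≫ φ =
      sX.app U ≫ X.presheaf.germ (sX ⁻¹ᵁ U) x hxU := by
    rw [Scheme.Hom.appLE, Category.assoc, Y.presheaf.germ_res_assoc,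
      ← Scheme.Hom.germ_stalkMap_assoc, h]
    simp
  obtain ⟨W, hxW, φ', i, hW, h₁, h₂⟩ :=
    exists_lift_of_finitePresentation (R := Γ(S, U)) (A := Γ(Y, V)) (U := sX ⁻¹ᵁ U) (x := x) hxU
    (Y.presheaf.germ _ y hyV ≫ φ) (sY.appLE U V iVU) (sX.app U)
    (sY.finitePresentation_appLE hU hV _) this
  refine ⟨W, hxW, W.toSpecΓ ≫ Spec.map φ' ≫ hV.fromSpec, ?_, ?_⟩
  · rw [W.fromSpecStalkOfMem_toSpecΓ_assoc x hxW, ← Spec.map_comp_assoc, ← h₁,
      Spec.map_comp, Category.assoc, ← IsAffineOpen.fromSpecStalk,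
      IsAffineOpen.fromSpecStalk_eq_fromSpecStalk]
  · simp only [Category.assoc]
    rw [← IsAffineOpen.SpecMap_appLE_fromSpec sY hU hV iVU, ← Spec.map_comp_assoc, ← h₂,
      ← Scheme.Hom.appLE, ← hW.isoSpec_hom, IsAffineOpen.SpecMap_appLE_fromSpec sX hU hW i,
      ← Iso.eq_inv_comp, IsAffineOpen.isoSpec_inv_ι_assoc]

end Groth.Agent.H5.SO
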