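import Mathlib
import Groth.Agent.Lib.Helper5.SO.SO1

set_option autoImplicit false
universe u
open CategoryTheory AlgebraicGeometry Opposite

namespace Groth.Agent.H5.SO

/-- If the local ring of `X` at `f y` is an algebraically closed field and `f` is étale,
then the stalk map at `y` is an isomorphism. -/
lemma isIso_stalkMap_of_isField_of_isAlgClosed {X Y : Scheme.{u}} (f : Y ⟶ X) [Etale f] (y : Y)
    (hX : IsField (X.presheaf.stalk (f y))) (hX' : IsAlgClosed (X.residueField (f y))) :
    IsIso (f.stalkMap y) := by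
  letI : Field (X.presheaf.stalk (f y)) := hX.toField
  have hbij : Function.Bijective (X.residue (f y)).hom :=
    ⟨RingHom.injective _, IsLocalRing.residue_surjective⟩
  let e : X.presheaf.stalk (f y) ≃+* X.residueField (f y) := RingEquiv.ofBijective _ hbij
  haveI : IsAlgClosed (X.presheaf.stalk (f y)) := IsAlgClosed.of_ringEquiv _ _ e.symm
  algebraize [(f.stalkMap y).hom]
  haveI : Algebra.EssFiniteType (X.presheaf.stalk (f y)) (Y.presheaf.stalk y) := by
    rw [← RingHom.essFiniteType_algebraMap, RingHom.algebraMap_toAlgebra]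
    exact LocallyOfFiniteType.stalkMap f y
  haveI : Algebra.FormallyUnramified (X.presheaf.stalk (f y)) (Y.presheaf.stalk y) := by
    rw [← RingHom.formallyUnramified_algebraMap, RingHom.algebraMap_toAlgebra]
    exact AlgebraicGeometry.FormallyUnramified.stalkMap f y
  have hb := Algebra.FormallyUnramified.bijective_of_isAlgClosed_of_isLocalRing
    (X.presheaf.stalk (f y)) (Y.presheaf.stalk y)
  exact (ConcreteCategory.isIso_iff_bijective _).mpr hb

theorem exists_section_of_isField_of_isAlgClosed
    (X Y : Scheme.{u}) (hX : ∀ x : X, IsField (X.presheaf.stalk x))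
    (hX' : ∀ x : X, IsAlgClosed (X.residueField x))
    (f : Y ⟶ X) [Etale f] (y : Y) :
    ∃ (V : X.Opens) (s : (V : Scheme.{u}) ⟶ Y), f.base y ∈ V ∧ s ≫ f = V.ι ∧
      y ∈ Set.range s.base := by
  haveI := isIso_stalkMap_of_isField_of_isAlgClosed f y (hX _) (hX' _)
  obtain ⟨U, hxU, s, h₁, h₂⟩ := spread_out_of_locallyOfFinitePresentation (𝟙 X) f
    (x := f y) (y := y) rfl (inv (f.stalkMap y)) (by
      rw [IsIso.hom_inv_id]
      simp)
  refine ⟨U, s, hxU, by simpa using h₂, ?_⟩
  have := congr($h₁ (IsLocalRing.closedPoint _))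
  rw [Scheme.Hom.comp_apply, Scheme.Hom.comp_apply] at this
  refine ⟨_, this.symm.trans ?_⟩
  have hcl : (Spec.map (inv (f.stalkMap y))) (IsLocalRing.closedPoint _) =
      IsLocalRing.closedPoint _ := by
    haveI : IsLocalHom (inv (f.stalkMap y)).hom := isLocalHom_of_isIso _
    exact IsLocalRing.comap_closedPoint _
  rw [hcl, Scheme.fromSpecStalk_closedPoint]

end Groth.Agent.H5.SO
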