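import Mathlib
import Groth.Agent.Lib.Helper5.SO.SO1
import Groth.Agent.Lib.Helper5.LL.LL3

set_option autoImplicit false
universe u
open CategoryTheory AlgebraicGeometry Opposite

namespace Groth.Agent.H5.SO

variable {X Y S : Scheme.{u}}

instance : (@IsOpenImmersion).HasOfPostcompProperty
    (@FormallyUnramified ⊓ @LocallyOfFiniteType) := by
  rw [MorphismProperty.hasOfPostcompProperty_iff_le_diagonal]
  intro A B f hf
  haveI := hf.1
  haveI := hf.2
  exact FormallyUnramified.isOpenImmersion_diagonal f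

/-- A section of an unramified morphism locally of finite type is an open immersion. -/
lemma isOpenImmersion_of_comp_isOpenImmersion {A B C : Scheme.{u}} (g : A ⟶ B) (f : B ⟶ C)
    [FormallyUnramified f] [LocallyOfFiniteType f] [IsOpenImmersion (g ≫ f)] :
    IsOpenImmersion g :=
  MorphismProperty.of_postcomp (W := @IsOpenImmersion)
    (W' := @FormallyUnramified ⊓ @LocallyOfFiniteType) g f ⟨‹_›, ‹_›⟩ ‹_›

/-- A morphism locally of finite presentation inducing an isomorphism on the stalk at `x`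
is an open immersion on a neighbourhood of `x`. -/
theorem exists_isOpenImmersion_of_isIso_stalkMap (f : X ⟶ Y) [LocallyOfFinitePresentation f]
    (x : X) [IsIso (f.stalkMap x)] :
    ∃ N : X.Opens, x ∈ N ∧ IsOpenImmersion (N.ι ≫ f) := by
  -- unramified neighbourhood
  have hunr : (f.stalkMap x).hom.FormallyUnramified :=
    RingHom.FormallyUnramified.of_surjective
      (ConcreteCategory.bijective_of_isIso (f.stalkMap x)).2
  obtain ⟨N₀, hxN₀, hN₀⟩ := H5.LL.exists_unramified_nhd f x hunr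
  let f₀ : N₀.toScheme ⟶ Y := N₀.ι ≫ f
  let x₀ : N₀ := ⟨x, hxN₀⟩
  haveI : IsIso (f₀.stalkMap x₀) := by
    have h0 : f₀.stalkMap x₀ = f.stalkMap (N₀.ι x₀) ≫ N₀.ι.stalkMap x₀ :=
      Scheme.Hom.stalkMap_comp N₀.ι f x₀
    rw [h0]
    have h1 : IsIso (f.stalkMap (N₀.ι x₀)) := by
      change IsIso (f.stalkMap x)
      infer_instance
    have h2 : IsIso (N₀.ι.stalkMap x₀) := inferInstance
    exact @IsIso.comp_isIso _ _ _ _ _ _ _ h1 h2
  obtain ⟨V, hyV, g, h₁, h₂⟩ := spread_out_of_locallyOfFinitePresentation (𝟙 Y) f₀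
    (x := f₀ x₀) (y := x₀) rfl (inv (f₀.stalkMap x₀)) (by
      rw [IsIso.hom_inv_id]
      simp)
  have h₂' : g ≫ f₀ = V.ι := by simpa using h₂
  -- g hits x₀
  have hgx : x₀ ∈ Set.range g.base := by
    have hcl : (Spec.map (inv (f₀.stalkMap x₀))) (IsLocalRing.closedPoint _) =
        IsLocalRing.closedPoint _ := by
      haveI : IsLocalHom (inv (f₀.stalkMap x₀)).hom := isLocalHom_of_isIso _
      exact IsLocalRing.comap_closedPoint _
    have e1 : (Spec.map (inv (f₀.stalkMap x₀)) ≫ N₀.toScheme.fromSpecStalk x₀)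
        (IsLocalRing.closedPoint _) = x₀ := by
      rw [Scheme.Hom.comp_apply, hcl, Scheme.fromSpecStalk_closedPoint]
    have e2 : (V.fromSpecStalkOfMem _ hyV ≫ g) (IsLocalRing.closedPoint _) =
        g (V.fromSpecStalkOfMem _ hyV (IsLocalRing.closedPoint _)) := Scheme.Hom.comp_apply ..
    exact ⟨_, (e2.symm.trans (congr($h₁ (IsLocalRing.closedPoint _))).symm).trans e1⟩
  haveI : IsOpenImmersion (g ≫ f₀) := by rw [h₂']; infer_instance
  haveI : IsOpenImmersion g := isOpenImmersion_of_comp_isOpenImmersion g f₀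
  let g' : V.toScheme ⟶ X := g ≫ N₀.ι
  refine ⟨g'.opensRange, ?_, ?_⟩
  · obtain ⟨v, hv⟩ := hgx
    refine ⟨v, ?_⟩
    change N₀.ι (g v) = x
    rw [hv]
    rfl
  · have : g'.opensRange.ι ≫ f = g'.isoOpensRange.inv ≫ V.ι := by
      calc g'.opensRange.ι ≫ f = (g'.isoOpensRange.inv ≫ g') ≫ f := by
            rw [Scheme.Hom.isoOpensRange_inv_comp]
        _ = g'.isoOpensRange.inv ≫ (g ≫ f₀) := by simp only [g', f₀, Category.assoc]
        _ = _ := by rw [h₂']
    rw [this]
    infer_instance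

end Groth.Agent.H5.SO
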