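import Mathlib
import Groth.Agent.Lib.Helper5.SO.SO3
import Groth.Agent.Lib.Helper5.EtSrc.OfComp

set_option autoImplicit false
universe u
open CategoryTheory AlgebraicGeometry Opposite

namespace Groth.Agent.H5.SO

variable {X Y S : Scheme.{u}}

lemma fromSpecStalkOfMem_closedPoint (U : X.Opens) (x : X) (hxU : x ∈ U) :
    U.fromSpecStalkOfMem x hxU (IsLocalRing.closedPoint _) = ⟨x, hxU⟩ := by
  apply U.ι.injective
  rw [← Scheme.Hom.comp_apply, Scheme.Opens.fromSpecStalkOfMem_ι, Scheme.fromSpecStalk_closedPoint]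
  rfl

set_option backward.isDefEq.respectTransparency.types false in
theorem exists_isIso_spread_out
    (sX : X ⟶ S) (sY : Y ⟶ S)
    [LocallyOfFinitePresentation sX] [LocallyOfFinitePresentation sY]
    {x : X} {y : Y} (e : sX x = sY y)
    (φ : Y.presheaf.stalk y ⟶ X.presheaf.stalk x) [IsIso φ]
    (h : sY.stalkMap y ≫ φ =
      S.presheaf.stalkSpecializes (Inseparable.of_eq e).specializes ≫ sX.stalkMap x) :
    ∃ (U : X.Opens) (hxU : x ∈ U) (V : Y.Opens) (f : U.toScheme ⟶ V.toScheme), IsIso f ∧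
      Spec.map φ ≫ Y.fromSpecStalk y = U.fromSpecStalkOfMem x hxU ≫ f ≫ V.ι ∧
        f ≫ V.ι ≫ sY = U.ι ≫ sX := by
  obtain ⟨U₀, hxU₀, f₀, h₁, h₂⟩ := spread_out_of_locallyOfFinitePresentation sX sY e φ h
  let x₀ : U₀ := ⟨x, hxU₀⟩
  haveI : LocallyOfFinitePresentation f₀ := by
    apply Groth.Agent.H5.EtSrc.locallyOfFinitePresentation_of_comp f₀ sY
    · rw [h₂]; infer_instance
    · infer_instance
  -- f₀ x₀ = y
  have hy : f₀ x₀ = y := by
    have hcl : (Spec.map φ) (IsLocalRing.closedPoint _) = IsLocalRing.closedPoint _ := by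
      haveI : IsLocalHom φ.hom := isLocalHom_of_isIso _
      exact IsLocalRing.comap_closedPoint _
    have e1 : (Spec.map φ ≫ Y.fromSpecStalk y) (IsLocalRing.closedPoint _) = y := by
      rw [Scheme.Hom.comp_apply, hcl, Scheme.fromSpecStalk_closedPoint]
    have e2 : (U₀.fromSpecStalkOfMem x hxU₀ ≫ f₀) (IsLocalRing.closedPoint _) = f₀ x₀ := by
      rw [Scheme.Hom.comp_apply, fromSpecStalkOfMem_closedPoint]
    rw [← e2, ← h₁, e1]
  -- the stalk map of f₀ at x₀ is an isomorphism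
  haveI : IsIso (f₀.stalkMap x₀) := by
    have hsp : f₀ x₀ ⤳ y := (Inseparable.of_eq hy).specializes
    have hsp' : Inseparable (f₀ x₀) y := Inseparable.of_eq hy
    have e1 : Spec.map (Y.presheaf.stalkSpecializes hsp ≫ f₀.stalkMap x₀ ≫
        inv (U₀.ι.stalkMap x₀)) = Spec.map (inv (U₀.ι.stalkMap x₀)) ≫
          Spec.map (f₀.stalkMap x₀) ≫ Spec.map (Y.presheaf.stalkSpecializes hsp) := by
      rw [Spec.map_comp, Spec.map_comp, Category.assoc]
    have key0 : Spec.map φ ≫ Y.fromSpecStalk y =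
        Spec.map (Y.presheaf.stalkSpecializes hsp ≫ f₀.stalkMap x₀ ≫
          inv (U₀.ι.stalkMap x₀)) ≫ Y.fromSpecStalk y := by
      rw [h₁, e1, Category.assoc, Category.assoc,
        Scheme.SpecMap_stalkSpecializes_fromSpecStalk, Scheme.SpecMap_stalkMap_fromSpecStalk]
      rfl
    have key : φ = Y.presheaf.stalkSpecializes hsp ≫ f₀.stalkMap x₀ ≫
        inv (U₀.ι.stalkMap x₀) := by
      apply Spec.map_injective
      rw [← cancel_mono (Y.fromSpecStalk y)]
      exact key0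
    haveI h3 : IsIso (Y.presheaf.stalkSpecializes hsp) :=
      (TopCat.Presheaf.stalkCongr Y.presheaf hsp'.symm).isIso_hom
    have h4 : IsIso (Y.presheaf.stalkSpecializes hsp ≫ f₀.stalkMap x₀ ≫
        inv (U₀.ι.stalkMap x₀)) := by rw [← key]; exact ‹IsIso φ›
    haveI h5 : IsIso (f₀.stalkMap x₀ ≫ inv (U₀.ι.stalkMap x₀)) :=
      IsIso.of_isIso_comp_left (Y.presheaf.stalkSpecializes hsp) _
    exact IsIso.of_isIso_comp_right _ (inv (U₀.ι.stalkMap x₀))
  obtain ⟨N, hxN, hN⟩ := exists_isOpenImmersion_of_isIso_stalkMap f₀ x₀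
  let U : X.Opens := U₀.ι ''ᵁ N
  have hxU : x ∈ U := ⟨x₀, hxN, rfl⟩
  let F : U.toScheme ⟶ Y := (U₀.ι.isoImage N).inv ≫ N.ι ≫ f₀
  haveI : IsOpenImmersion F := inferInstance
  have hF : F.isoOpensRange.hom ≫ F.opensRange.ι = F := Scheme.Hom.isoOpensRange_hom_ι F
  refine ⟨U, hxU, F.opensRange, F.isoOpensRange.hom, inferInstance, ?_, ?_⟩
  · rw [hF, h₁]
    have : U.fromSpecStalkOfMem x hxU ≫ (U₀.ι.isoImage N).inv ≫ N.ι =
        U₀.fromSpecStalkOfMem x hxU₀ := by
      rw [← cancel_mono U₀.ι, Category.assoc, Category.assoc, Scheme.Hom.isoImage_inv_ι,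
        Scheme.Opens.fromSpecStalkOfMem_ι]
      exact (Scheme.Opens.fromSpecStalkOfMem_ι U₀ x hxU₀).symm
    rw [← this]
    simp only [F, Category.assoc]
  · rw [reassoc_of% hF]
    simp only [F, Category.assoc, h₂]
    rw [Scheme.Hom.isoImage_inv_ι_assoc]

end Groth.Agent.H5.SO
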